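import Groth.Agent.Lib.ArInter.Fibre
import Groth.Agent.Lib.ArInter.Form

/-!
# Degrees of effective divisors on proper curves contracted to the closed point of a local base
-/

set_option autoImplicit false
set_option linter.style.haveILetI false
set_option linter.unusedSectionVars false
set_option maxHeartbeats 1000000
set_option backward.isDefEq.respectTransparency false

universe u

open CategoryTheory CategoryTheory.Limits AlgebraicGeometry TopologicalSpace Opposite

namespace Groth.Agent.NegDef10

section Degree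

variable {k : Type u} [Field k] {C Y : Scheme.{u}} [C.Over (Spec (CommRingCat.of k))]
  [IsProper (C ↘ Spec (CommRingCat.of k))] (e : C ⟶ Y)

/-- The degree on the curve of the ideal module of a divisor. -/
noncomputable def ideg (k : Type u) [Field k] {C Y : Scheme.{u}} [C.Over (Spec (CommRingCat.of k))]
    (e : C ⟶ Y) (D : Y.IdealSheafData) : ℤ :=
  Curv2.deg k C ((Scheme.Modules.pullback e).obj (ClSub.idealMod D)) 1

theorem ideg_mul (hC : topologicalKrullDim C ≤ 1) {D D' : Y.IdealSheafData}
    (hD : BlowUp.IsEffCartierIdeal D) (hD' : BlowUp.IsEffCartierIdeal D') :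
    ideg k e (D * D') = ideg k e D + ideg k e D' := by
  have hc := CurveAmple18.curveLike k C hC
  obtain ⟨i⟩ := CurveCoh17.nonempty_idealMod_mul hD hD'
  unfold ideg
  rw [← CurveCoh17.deg_iso ((M2.pullTensorIso e _ _).symm ≪≫ (Scheme.Modules.pullback e).mapIso i)]
  exact hc.deg_tensor_invertible (PicLoc.isInvertible_pullback e (M2.isInvertible_idealMod _ hD))
    (PicLoc.isInvertible_pullback e (M2.isInvertible_idealMod _ hD'))

theorem ideg_eq_zero_of_iso {D : Y.IdealSheafData} (i : Coh.structureModule Y ≅ ClSub.idealMod D) :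
    ideg k e D = 0 := by
  unfold ideg
  rw [CurveCoh17.deg_iso ((Scheme.Modules.pullback e).mapIso i.symm ≪≫ PicLoc.pullbackStructureIso e),
    CurveCoh17.deg_structureModule]

theorem ideg_top (hC : topologicalKrullDim C ≤ 1) : ideg k e (⊤ : Y.IdealSheafData) = 0 := by
  have h := ideg_mul (k := k) e hC (EffCartier.isEffCartierIdeal_top (X := Y)) EffCartier.isEffCartierIdeal_top
  rw [SecDiv.mul_top'] at h
  linarith

theorem ideg_pow (hC : topologicalKrullDim C ≤ 1) {D : Y.IdealSheafData} (hD : BlowUp.IsEffCartierIdeal D) :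
    ∀ n : ℕ, ideg k e (D ^ n) = n * ideg k e D
  | 0 => by rw [pow_zero, Scheme.IdealSheafData.one_eq_top, ideg_top e hC, Nat.cast_zero, zero_mul]
  | n + 1 => by
    rw [pow_succ, ideg_mul e hC (BlowUpExist.isEffCartierIdeal_pow hD n) hD, ideg_pow hC hD n]
    push_cast
    ring

variable {T : Type*} (E : T → Y.IdealSheafData) (a : T → ℕ)

theorem support_finsetProd (s : Finset T) {x : Y} (hx : x ∈ (∏ p ∈ s, E p ^ a p).support) :
    ∃ p ∈ s, a p ≠ 0 ∧ x ∈ (E p).support := by
  classical
  induction s using Finset.induction_on with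
  | empty =>
    rw [Finset.prod_empty, Scheme.IdealSheafData.one_eq_top, Scheme.IdealSheafData.support_top] at hx
    exact hx.elim
  | insert p s hp ih =>
    rw [Finset.prod_insert hp, Scheme.IdealSheafData.support_mul] at hx
    rcases hx with hx | hx
    · rcases eq_or_ne (a p) 0 with h0 | h0
      · rw [h0, pow_zero, Scheme.IdealSheafData.one_eq_top, Scheme.IdealSheafData.support_top] at hx
        exact hx.elim
      · rw [Scheme.IdealSheafData.support_pow _ _ h0] at hx
        exact ⟨p, Finset.mem_insert_self _ _, h0, hx⟩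
    · obtain ⟨q, hq, h⟩ := ih hx
      exact ⟨q, Finset.mem_insert_of_mem hq, h⟩

theorem isEffCartier_finsetProd (hE : ∀ p, BlowUp.IsEffCartierIdeal (E p)) (s : Finset T) :
    BlowUp.IsEffCartierIdeal (∏ p ∈ s, E p ^ a p) := by
  classical
  induction s using Finset.induction_on with
  | empty =>
    rw [Finset.prod_empty, Scheme.IdealSheafData.one_eq_top]
    exact EffCartier.isEffCartierIdeal_top
  | insert p s hp ih =>
    rw [Finset.prod_insert hp]
    exact EffCartier.isEffCartierIdeal_mul (BlowUpExist.isEffCartierIdeal_pow (hE p) _) ih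

theorem ideg_finsetProd (hC : topologicalKrullDim C ≤ 1) (hE : ∀ p, BlowUp.IsEffCartierIdeal (E p)) (s : Finset T) :
    ideg k e (∏ p ∈ s, E p ^ a p) = ∑ p ∈ s, (a p : ℤ) * ideg k e (E p) := by
  classical
  induction s using Finset.induction_on with
  | empty => rw [Finset.prod_empty, Finset.sum_empty, Scheme.IdealSheafData.one_eq_top, ideg_top e hC]
  | insert p s hp ih =>
    rw [Finset.prod_insert hp, Finset.sum_insert hp,
      ideg_mul e hC (BlowUpExist.isEffCartierIdeal_pow (hE p) _) (isEffCartier_finsetProd E a hE s),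
      ideg_pow e hC (hE p), ih]

theorem deg_inverse (hC : topologicalKrullDim C ≤ 1) {D : Y.IdealSheafData} (hD : BlowUp.IsEffCartierIdeal D)
    {L : Y.Modules} (hL : ClSub.IsInverseOf L (ClSub.idealMod D)) :
    Curv2.deg k C ((Scheme.Modules.pullback e).obj L) 1 = -ideg k e D := by
  have hc := CurveAmple18.curveLike k C hC
  haveI := hc.noetherian
  obtain ⟨i⟩ := hL
  have hI := M2.isInvertible_idealMod D hD
  have hLC := PicLoc.isInvertible_pullback e (M2.isInvertible_of_tensor_iso hI i)
  have h := hc.deg_tensor_invertible hLC (PicLoc.isInvertible_pullback e hI)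
  rw [CurveCoh17.deg_iso ((M2.pullTensorIso e L (ClSub.idealMod D)).symm ≪≫
    (Scheme.Modules.pullback e).mapIso i ≪≫ PicLoc.pullbackStructureIso e),
    CurveCoh17.deg_structureModule] at h
  unfold ideg
  linarith

variable [IsIntegral C]

theorem ideg_eq_neg_finrank (hC : topologicalKrullDim C ≤ 1) {D : Y.IdealSheafData}
    (hD : BlowUp.IsEffCartierIdeal D) (hg : e (genericPoint C) ∉ (D.support : Set Y)) :
    ideg k e D = -(Module.finrank k (Coh.HH C (ClSub.quotMod (D.comap e)) 0) : ℤ) := by
  have hJ := ArInter.isEffCartier_comap e hD hg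
  obtain ⟨ψ⟩ := ArInter.nonempty_pullback_idealMod e hD hJ
  unfold ideg
  rw [CurveCoh17.deg_iso ψ, CurveAmple18.deg_idealMod hC hJ]

theorem finrank_eq_zero_iff (hC : topologicalKrullDim C ≤ 1) (D : Y.IdealSheafData) :
    Module.finrank k (Coh.HH C (ClSub.quotMod (D.comap e)) 0) = 0 ↔
      Disjoint (Set.range e) (D.support : Set Y) := by
  have hc := CurveAmple18.curveLike k C hC
  haveI := hc.noetherian
  let J := D.comap e
  haveI : Module.Finite k (Coh.HH C (ClSub.quotMod J) 0) := hc.fin _ (CurveCoh17.isCoh_quotMod J) 0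
  rw [Module.finrank_zero_iff, (CurveCoh17.hh0 (ClSub.quotMod J)).toEquiv.subsingleton_congr]
  have hsupp : IsEmpty J.subscheme ↔ Disjoint (Set.range e) (D.support : Set Y) := by
    rw [← Set.range_eq_empty_iff (f := J.subschemeι.base), Scheme.IdealSheafData.range_subschemeι,
      Scheme.IdealSheafData.support_comap, Set.disjoint_left]
    simp [Set.eq_empty_iff_forall_notMem]
  rw [← hsupp]
  show Subsingleton Γ(J.subscheme, ⊤) ↔ _
  refine ⟨fun h => ?_, fun h => ⟨fun a b => TopCat.Presheaf.section_ext J.subscheme.sheaf ⊤ a b fun z _ => h.elim z⟩⟩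
  by_contra hne
  rw [not_isEmpty_iff] at hne
  haveI : Nonempty ((⊤ : J.subscheme.Opens)) := ⟨⟨hne.some, trivial⟩⟩
  haveI := Scheme.component_nontrivial J.subscheme ⊤
  exact not_subsingleton Γ(J.subscheme, ⊤) h

end Degree

/-- The degree of the intersection as a length over the base. -/
theorem length_eq_finrank {R : Type u} [CommRing R] [IsLocalRing R] {C Y : Scheme.{u}}
    [C.Over (Spec (CommRingCat.of (IsLocalRing.ResidueField R)))]
    [IsProper (C ↘ Spec (CommRingCat.of (IsLocalRing.ResidueField R)))] (hC : topologicalKrullDim C ≤ 1)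
    [Y.Over (Spec (CommRingCat.of R))] (e : C ⟶ Y) [IsClosedImmersion e]
    (he : e ≫ (Y ↘ Spec (CommRingCat.of R)) =
      (C ↘ Spec (CommRingCat.of (IsLocalRing.ResidueField R))) ≫ Spec.map (CommRingCat.ofHom (IsLocalRing.residue R)))
    (D : Y.IdealSheafData) :
    (Module.finrank (IsLocalRing.ResidueField R) (Coh.HH C (ClSub.quotMod (D.comap e)) 0) : ℕ∞) =
      Module.length R (Coh.HH Y (ClSub.quotMod (D ⊔ e.ker)) 0) := by
  let k := IsLocalRing.ResidueField R
  have hc := CurveAmple18.curveLike k C hC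
  haveI := hc.noetherian
  let K := D ⊔ e.ker
  let J := D.comap e
  let g := J.subschemeι ≫ e
  have hK : g.ker = K := by
    rw [Scheme.Hom.ker_comp, Scheme.IdealSheafData.ker_subschemeι,
      ← FormalH7.map_eq_of_ker_le e K le_sup_right, Scheme.IdealSheafData.comap_sup,
      FormalH7.comap_ker_self, sup_bot_eq]
  let a : J.subscheme ⟶ K.subscheme := IsClosedImmersion.lift K.subschemeι g
    (by rw [Scheme.IdealSheafData.ker_subschemeι, hK])
  have ha : a ≫ K.subschemeι = g := IsClosedImmersion.lift_fac _ _ _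
  let b : K.subscheme ⟶ J.subscheme := IsClosedImmersion.lift g K.subschemeι
    (by rw [Scheme.IdealSheafData.ker_subschemeι, hK])
  have hb : b ≫ g = K.subschemeι := IsClosedImmersion.lift_fac _ _ _
  haveI : IsIso a := ⟨b, by rw [← cancel_mono g, Category.assoc, hb, ha, Category.id_comp],
    by rw [← cancel_mono K.subschemeι, Category.assoc, ha, hb, Category.id_comp]⟩
  let α : Γ(K.subscheme, ⊤) ≃+* Γ(J.subscheme, ⊤) := RingEquiv.ofBijective a.appTop.hom
    (ConcreteCategory.bijective_of_isIso (a.app ⊤))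
  let ε : Coh.HH Y (ClSub.quotMod K) 0 ≃+ Coh.HH C (ClSub.quotMod J) 0 :=
    (CurveCoh17.hh0 (ClSub.quotMod K)).trans
      (α.toAddEquiv.trans (CurveCoh17.hh0 (ClSub.quotMod J)).symm)
  letI : Module R (Coh.HH C (ClSub.quotMod J) 0) := Module.compHom _ (IsLocalRing.residue R)
  haveI : IsScalarTower R k (Coh.HH C (ClSub.quotMod J) 0) :=
    ⟨fun r c x => mul_smul (IsLocalRing.residue R r) c x⟩
  have hlin : ∀ (r : R) x, ε (r • x) = r • ε x := fun r x => by
    apply (CurveCoh17.hh0 (ClSub.quotMod J)).injective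
    refine Eq.trans ?_ (ArInter.hh0_quotMod_smul (A := k) J (IsLocalRing.residue R r) (ε x)).symm
    have e1 : ∀ y, (show Γ(J.subscheme, ⊤) from CurveCoh17.hh0 (ClSub.quotMod J) (ε y)) =
        α (show Γ(K.subscheme, ⊤) from CurveCoh17.hh0 (ClSub.quotMod K) y) := fun y =>
      (CurveCoh17.hh0 (ClSub.quotMod J)).apply_symm_apply _
    refine (e1 _).trans ?_
    rw [ArInter.hh0_quotMod_smul (A := R) K r x, map_mul, e1 x]
    congr 1
    have h1 : a ≫ K.subschemeι ≫ (Y ↘ Spec (CommRingCat.of R)) =
        J.subschemeι ≫ (C ↘ Spec (CommRingCat.of k)) ≫ Spec.map (CommRingCat.ofHom (IsLocalRing.residue R)) := by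
      rw [← he, ← Category.assoc, ha, Category.assoc]
    have h2 := congrArg (fun φ => ((Scheme.ΓSpecIso (CommRingCat.of R)).inv ≫ φ.appTop).hom r) h1
    simp only [Scheme.Hom.comp_appTop, Category.assoc] at h2
    rw [← Scheme.ΓSpecIso_inv_naturality_assoc] at h2
    exact h2
  let εl : Coh.HH Y (ClSub.quotMod K) 0 ≃ₗ[R] Coh.HH C (ClSub.quotMod J) 0 :=
    { ε with map_smul' := hlin }
  haveI : Module.Finite k (Coh.HH C (ClSub.quotMod J) 0) := hc.fin _ (CurveCoh17.isCoh_quotMod J) 0
  rw [εl.length_eq, Module.length_eq_of_surjective (R := k) IsLocalRing.residue_surjective,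
    Module.length_eq_finrank]

/-! ### The divisor of a function of the base -/

section Function

variable {R : Type u} [CommRing R] [IsDomain R] {Y : Scheme.{u}} [IsIntegral Y] (π : Y ⟶ Spec (CommRingCat.of R))
  (hπ : π (genericPoint Y) = genericPoint (Spec (CommRingCat.of R))) (t : R)

/-- The ideal sheaf of the zeros of a function of the base. -/
noncomputable def divI : Y.IdealSheafData :=
  haveI := M1.isQCoh_structureModule Y
  SecDiv.ofMono (M1.secHom (M := Coh.structureModule Y) (Coh.toGlobal π t))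

theorem basicOpen_toGlobal : Y.basicOpen (Coh.toGlobal π t) = π ⁻¹ᵁ (PrimeSpectrum.basicOpen t) := by
  rw [← basicOpen_eq_of_affine (R := CommRingCat.of R) t, Scheme.preimage_basicOpen]
  rfl

include hπ in
theorem res_toGlobal_ne_zero (ht : t ≠ 0) (U : Y.Opens) [hU : Nonempty U] :
    (Y.presheaf.map (homOfLE (le_top : U ≤ ⊤)).op) (Coh.toGlobal π t) ≠ 0 := by
  intro h0
  have hb := congrArg Y.basicOpen h0
  rw [Scheme.basicOpen_res, Scheme.basicOpen_zero, basicOpen_toGlobal π t] at hb
  obtain ⟨x, hx⟩ := hU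
  have hgU : genericPoint Y ∈ U := ((genericPoint_spec Y).mem_open_set_iff U.isOpen).mpr ⟨x, trivial, hx⟩
  have hgt : genericPoint Y ∈ π ⁻¹ᵁ PrimeSpectrum.basicOpen t := by
    show π (genericPoint Y) ∈ PrimeSpectrum.basicOpen t
    rw [hπ, genericPoint_eq_bot_of_affine]
    exact ht
  exact (hb.le ⟨hgU, hgt⟩ : genericPoint Y ∈ (⊥ : Y.Opens))

theorem ideal_divI (U : Y.affineOpens) :
    (divI π t).ideal U =
      Ideal.span {(Y.presheaf.map (homOfLE (le_top : U.1 ≤ ⊤)).op) (Coh.toGlobal π t)} := by
  ext s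
  rw [Ideal.mem_span_singleton']
  constructor
  · rintro ⟨a, rfl⟩
    exact ⟨a, (Twist.secHom_app (M := Coh.structureModule Y) (Coh.toGlobal π t) U.1 a).symm⟩
  · rintro ⟨a, rfl⟩
    exact ⟨a, Twist.secHom_app (M := Coh.structureModule Y) (Coh.toGlobal π t) U.1 a⟩

theorem mem_support_divI (x : Y) : x ∈ (divI π t).support ↔ t ∈ (π.base x).asIdeal := by
  obtain ⟨U, hU, hx⟩ := DivDesc12.exists_affine x
  rw [Scheme.IdealSheafData.mem_support_iff_of_mem (U := ⟨U, hU⟩) hx, ideal_divI,
    Scheme.zeroLocus_span, Scheme.mem_zeroLocus_iff]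
  simp only [Set.mem_singleton_iff, forall_eq]
  rw [Scheme.basicOpen_res, basicOpen_toGlobal π t]
  show ¬ (x ∈ U ∧ ¬ t ∈ (π.base x).asIdeal) ↔ t ∈ (π.base x).asIdeal
  simp only [hx, true_and, not_not]

include hπ in
theorem isEffCartier_divI (ht : t ≠ 0) : BlowUp.IsEffCartierIdeal (divI π t) := by
  intro x
  obtain ⟨U, hU, hx⟩ := DivDesc12.exists_affine x
  haveI : Nonempty U := ⟨⟨x, hx⟩⟩
  exact ⟨⟨U, hU⟩, hx, _, mem_nonZeroDivisors_of_ne_zero (res_toGlobal_ne_zero π hπ t ht U), ideal_divI π t ⟨U, hU⟩⟩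

include hπ in
theorem nonempty_idealMod_divI (ht : t ≠ 0) :
    Nonempty (Coh.structureModule Y ≅ ClSub.idealMod (divI π t)) := by
  haveI := M1.isQCoh_structureModule Y
  haveI : Mono (M1.secHom (M := Coh.structureModule Y) (Coh.toGlobal π t)) := by
    refine (M1.mono_iff_app _).mpr fun U => ?_
    rcases isEmpty_or_nonempty U with hU | hU
    · intro a b _
      exact TopCat.Presheaf.section_ext Y.sheaf U a b fun z hz => (hU.false ⟨z, hz⟩).elim
    · intro a b hab
      rw [Twist.secHom_app, Twist.secHom_app] at hab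
      exact mul_right_cancel₀ (b := (Y.presheaf.map (homOfLE (le_top : U ≤ ⊤)).op) (Coh.toGlobal π t))
        (M₀ := Γ(Y, U)) (res_toGlobal_ne_zero π hπ t ht U) hab
  exact SecDiv.nonempty_iso_idealMod (M1.secHom (M := Coh.structureModule Y) (Coh.toGlobal π t))

end Function

/-! ### Curves as divisors -/

section Curve

variable {Y C : Scheme.{u}} (e : C ⟶ Y) [IsClosedImmersion e] [IsIntegral C]

theorem range_eq_closure : Set.range e = closure {e (genericPoint C)} := by
  have h := ((genericPoint_spec C).image e.continuous).def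
  rw [Set.image_univ, e.isClosedEmbedding.isClosed_range.closure_eq] at h
  exact h.symm

theorem coe_support_ker : (e.ker.support : Set Y) = Set.range e := by
  rw [Scheme.Hom.support_ker]
  exact e.isClosedEmbedding.isClosed_range.closure_eq

theorem le_ker_of_mem {D : Y.IdealSheafData} (h : e (genericPoint C) ∈ (D.support : Set Y)) : D ≤ e.ker := by
  rw [RedSepLib.ker_eq_vanishingIdeal]
  refine Scheme.IdealSheafData.le_support_iff_le_vanishingIdeal.mp ?_
  change closure (Set.range e) ⊆ (D.support : Set Y)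
  rw [range_eq_closure, closure_closure]
  exact D.support.isClosed.closure_subset_iff.mpr (Set.singleton_subset_iff.mpr h)

theorem stalk_dim [IsNoetherian Y] (hE : BlowUp.IsEffCartierIdeal e.ker) :
    ringKrullDim (Y.presheaf.stalk (e (genericPoint C))) = 1 := by
  refine SecDiv.ringKrullDim_generic hE ((coe_support_ker e).ge ⟨_, rfl⟩) fun w hw hwy => ?_
  rw [coe_support_ker, range_eq_closure, ← specializes_iff_mem_closure] at hw
  exact (hwy.antisymm hw).eq

theorem notMem_range [IsNoetherian Y] {C' : Scheme.{u}} (e' : C' ⟶ Y) [IsClosedImmersion e'] [IsIntegral C']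
    (hE : BlowUp.IsEffCartierIdeal e.ker) (hE' : BlowUp.IsEffCartierIdeal e'.ker)
    (h : Set.range e ≠ Set.range e') : e (genericPoint C) ∉ Set.range e' := by
  intro hm
  rw [range_eq_closure, ← specializes_iff_mem_closure] at hm
  have hne : e' (genericPoint C') ≠ e (genericPoint C) := fun he =>
    h (by rw [range_eq_closure, range_eq_closure, he])
  have h2 := SecDiv.two_le_of_specializes hm hne (stalk_dim e' hE')
  rw [stalk_dim e hE] at h2
  exact absurd h2 (by decide)

end Curve

end Groth.Agent.NegDef10
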